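import Mathlib
import Cfsg.Agent.Helper15.PSp.Defs2
import Cfsg.Agent.Helper64.SpBlk.PermS

/-!
# `Sp₆(q)` from `Sp₄(q)` and `S₃` (the case `m = 3` of S2292, architect helper9): definitions

`a4 : Sp₄(K) →* D` (the `Sp₄` on the hyperbolic pairs `0, 1`), `ρ : S₃ →* D` (in the model `π ↦ diag(P_π, P_π)`).
`S₃ = Equiv.Perm (Fin 3)` acts sharply on ordered pairs of points: `pick3 i j` is the permutation with
`0 ↦ i`, `1 ↦ j`.  `AF3 a4 ρ i j g = ρ (pick3 i j) * a4 g * (ρ (pick3 i j))⁻¹`.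

Relations: `ρ (0 1) = a4 nS`; `ρ (1 2)` centralises the long root `SL₂` `a4 ∘ i0` at the pair `0`; `a4` commutes with the
long root `SL₂` at the pair `2`, i.e. with `ρ (0 2) * a4 (i0 g') * (ρ (0 2))⁻¹`; and helper15's `Cross2` (helper1's `CrossE`
for `q = 4`) for `a = a4 ∘ eS4`, `c = ρ (0 1 2)`.
-/

set_option autoImplicit false

namespace Cfsg.Agent.Helper9.PSp3

open Matrix Cfsg.Agent.Helper96.StC Cfsg.Agent.Helper96.StN Cfsg.Agent.Helper29.StCM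
  Cfsg.Agent.Helper96.StemSLTwo Cfsg.Agent.Helper96.StPres Cfsg.Agent.Helper9.Sp4P
  Cfsg.Agent.Helper1.SL3P Cfsg.Agent.Helper15.PSp

universe u v

/-- the symmetric group of degree 3 -/
abbrev S3 := Equiv.Perm (Fin 3)

/-- the transposition `(0 1)` -/
def s01 : S3 := Equiv.swap 0 1
/-- the transposition `(1 2)` -/
def s12 : S3 := Equiv.swap 1 2
/-- the transposition `(0 2)` -/
def s02 : S3 := Equiv.swap 0 2
/-- the 3-cycle `0 ↦ 1 ↦ 2 ↦ 0` -/
def c3 : S3 := s01 * s12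

theorem c3_zero : c3 0 = 1 := by decide
theorem c3_one : c3 1 = 2 := by decide
theorem c3_two : c3 2 = 0 := by decide
theorem c3_cube : c3 * c3 * c3 = 1 := by decide
theorem c3_mul_s01 : c3 * s01 = s02 := by decide
theorem s12_eq : s12 = c3 * s01 * c3⁻¹ := by decide

/-- a permutation of three points is determined by two values -/
theorem perm3_ext : ∀ π π' : S3, π 0 = π' 0 → π 1 = π' 1 → π = π' := by decide

theorem exists_perm3 : ∀ i j : Fin 3, i ≠ j → ∃ π : S3, π 0 = i ∧ π 1 = j := by decide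

/-- the permutation with `0 ↦ i`, `1 ↦ j` -/
noncomputable def pick3 (i j : Fin 3) : S3 := by
  classical
  exact if h : ∃ π : S3, π 0 = i ∧ π 1 = j then Classical.choose h else 1

theorem pick3_spec (i j : Fin 3) (hij : i ≠ j) : pick3 i j 0 = i ∧ pick3 i j 1 = j := by
  unfold pick3
  rw [dif_pos (exists_perm3 i j hij)]
  exact Classical.choose_spec (exists_perm3 i j hij)

theorem pick3_eq (i j : Fin 3) (hij : i ≠ j) (π : S3) (h0 : π 0 = i) (h1 : π 1 = j) :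
    pick3 i j = π := by
  obtain ⟨e0, e1⟩ := pick3_spec i j hij
  exact perm3_ext _ _ (e0.trans h0.symm) (e1.trans h1.symm)

theorem closure_s01_s12 : Subgroup.closure ({s01, s12} : Set S3) = ⊤ := by
  have h := Equiv.Perm.closure_cycle_adjacent_swap (σ := finRotate 3)
    (isCycle_finRotate (n := 1)) (support_finRotate (n := 1)) (0 : Fin 3)
  rw [eq_top_iff, ← h, Subgroup.closure_le]
  intro x hx
  rcases hx with rfl | rfl
  · have e : (finRotate 3 : S3) = s01 * s12 := by decide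
    rw [e]
    exact mul_mem (Subgroup.subset_closure (by simp)) (Subgroup.subset_closure (by simp))
  · have e : Equiv.swap (0 : Fin 3) (finRotate 3 0) = s01 := by decide
    rw [e]
    exact Subgroup.subset_closure (by simp)

variable {K : Type u} [Field K] {D : Type v} [Group D]

/-- the family of homomorphisms attached to `a4`, `ρ` -/
noncomputable def AF3 (a4 : Sp4 K →* D) (ρ : S3 →* D) (i j : Fin 3) : Sp4 K →* D :=
  (MulAut.conj (ρ (pick3 i j))).toMonoidHom.comp a4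

theorem AF3_apply (a4 : Sp4 K →* D) (ρ : S3 →* D) (i j : Fin 3) (g : Sp4 K) :
    AF3 a4 ρ i j g = ρ (pick3 i j) * a4 g * (ρ (pick3 i j))⁻¹ := rfl

theorem AF3_eq (a4 : Sp4 K →* D) (ρ : S3 →* D) (i j : Fin 3) (hij : i ≠ j) (π : S3) (h0 : π 0 = i)
    (h1 : π 1 = j) (g : Sp4 K) : AF3 a4 ρ i j g = ρ π * a4 g * (ρ π)⁻¹ := by
  rw [AF3_apply, pick3_eq i j hij π h0 h1]

/-- the gluing relations for all elements -/
structure GlueS (a4 : Sp4 K →* D) (ρ : S3 →* D) : Prop where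
  ns : ρ s01 = a4 (nS K)
  lg : ∀ g : SL2 K, Commute (ρ s12) (a4 (i0 K g))
  djl : ∀ (g : Sp4 K) (g' : SL2 K), Commute (a4 g) (ρ s02 * a4 (i0 K g') * (ρ s02)⁻¹)

/-- the gluing relations on generators: `l1, l2` generate `Sp₄(K)`, `z` generates `Kˣ` -/
structure GlueGenS (a4 : Sp4 K →* D) (ρ : S3 →* D) (z : Kˣ) (l1 l2 : Sp4 K) : Prop where
  ns : ρ s01 = a4 (nS K)
  lu : Commute (ρ s12) (a4 (i0 K (uMat K 1)))
  lh : Commute (ρ s12) (a4 (i0 K (dMat (z : K) z.ne_zero)))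
  lw : Commute (ρ s12) (a4 (i0 K (WU (1 : K))))
  d1u : Commute (a4 l1) (ρ s02 * a4 (i0 K (uMat K 1)) * (ρ s02)⁻¹)
  d1h : Commute (a4 l1) (ρ s02 * a4 (i0 K (dMat (z : K) z.ne_zero)) * (ρ s02)⁻¹)
  d1w : Commute (a4 l1) (ρ s02 * a4 (i0 K (WU (1 : K))) * (ρ s02)⁻¹)
  d2u : Commute (a4 l2) (ρ s02 * a4 (i0 K (uMat K 1)) * (ρ s02)⁻¹)
  d2h : Commute (a4 l2) (ρ s02 * a4 (i0 K (dMat (z : K) z.ne_zero)) * (ρ s02)⁻¹)
  d2w : Commute (a4 l2) (ρ s02 * a4 (i0 K (WU (1 : K))) * (ρ s02)⁻¹)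

/-- the ten gluing relator words; `L1, L2` for `l1, l2`, `N` for `nS`, `U, H, W` for the generators of the long root
`SL₂` at the pair `0`, `S, R, P` for `(0 1)`, `(1 2)`, `(0 2)` -/
def wordsGS {G : Type*} [Group G] (L1 L2 N U H W S R P : G) : List G :=
  [S * N⁻¹,
   R * U * R⁻¹ * U⁻¹, R * H * R⁻¹ * H⁻¹, R * W * R⁻¹ * W⁻¹,
   L1 * (P * U * P⁻¹) * L1⁻¹ * (P * U * P⁻¹)⁻¹, L1 * (P * H * P⁻¹) * L1⁻¹ * (P * H * P⁻¹)⁻¹,
   L1 * (P * W * P⁻¹) * L1⁻¹ * (P * W * P⁻¹)⁻¹,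
   L2 * (P * U * P⁻¹) * L2⁻¹ * (P * U * P⁻¹)⁻¹, L2 * (P * H * P⁻¹) * L2⁻¹ * (P * H * P⁻¹)⁻¹,
   L2 * (P * W * P⁻¹) * L2⁻¹ * (P * W * P⁻¹)⁻¹]

theorem length_wordsGS {G : Type*} [Group G] (L1 L2 N U H W S R P : G) :
    (wordsGS L1 L2 N U H W S R P).length = 10 := rfl

theorem map_wordsGS {G H' : Type*} [Group G] [Group H'] (φ : G →* H') (L1 L2 N U H W S R P : G) :
    (wordsGS L1 L2 N U H W S R P).map φ =
      wordsGS (φ L1) (φ L2) (φ N) (φ U) (φ H) (φ W) (φ S) (φ R) (φ P) := by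
  simp only [wordsGS, List.map_cons, List.map_nil, map_mul, map_inv]

/-! ## the model -/

section model

variable (K)

/-- the embedding `0 ↦ 0`, `1 ↦ 1` of index sets -/
def e01' : Fin 2 ↪ Fin 3 := Fin.castSuccEmb

@[simp] theorem e01'_zero : e01' 0 = 0 := rfl
@[simp] theorem e01'_one : e01' 1 = 1 := rfl

/-- the `Sp₄(K)` on the hyperbolic pairs `0, 1` of `Sp₆(K)` -/
def jM3 : Sp4 K →* Matrix.symplecticGroup (Fin 3) K := Cfsg.Agent.Helper64.SpBlk.blk e01'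

/-- the permutations of the three hyperbolic pairs: `σ ↦ diag(P_σ, P_σ)` (helper64's `permS`) -/
def rho3 : S3 →* Matrix.symplecticGroup (Fin 3) K := Cfsg.Agent.Helper64.SpBlk.permS K

theorem coe_rho3 (σ : S3) (p q : Fin 3 ⊕ Fin 3) :
    ((rho3 K σ : Matrix.symplecticGroup (Fin 3) K) : Matrix (Fin 3 ⊕ Fin 3) (Fin 3 ⊕ Fin 3) K) p q =
      if p = Cfsg.Agent.Helper64.SpBlk.dbl σ q then 1 else 0 := rfl

end model

end Cfsg.Agent.Helper9.PSp3
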