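import Mathlib
import Cfsg.Agent.Helper9.PSp3.Defs
import Cfsg.Agent.Helper64.SpBlk.P_BLONG

/-!
# S2292, the case `m = 3` (`Sp₆`), piece (MCM) -- see `tools/helper9_psp3/README.md` (architect helper9).
-/

set_option autoImplicit false

namespace Cfsg.Agent.Helper9.PSp3

open Matrix Cfsg.Agent.Helper96.StC Cfsg.Agent.Helper96.StN Cfsg.Agent.Helper29.StCM
  Cfsg.Agent.Helper96.StemSLTwo Cfsg.Agent.Helper96.StPres Cfsg.Agent.Helper9.Sp4P
  Cfsg.Agent.Helper1.SL3P Cfsg.Agent.Helper1.SLNP Cfsg.Agent.Helper15.PSp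
  Cfsg.Agent.Helper64.SpBlk

universe u v

variable {K : Type u} [Field K] {D : Type v} [Group D]

theorem MCM_orth {κ : Type*} [Fintype κ] [DecidableEq κ] (e e' : Fin 2 ↪ κ)
    (h : ∀ a, e a ≠ e' 0) : (Emat K e)ᵀ * (Emat K e' * BLONG_P K) = 0 := by
  ext a b
  rw [Matrix.mul_apply, Matrix.zero_apply]
  apply Finset.sum_eq_zero
  intro p _
  unfold BLONG_P
  rw [Matrix.mul_diagonal, Matrix.transpose_apply, Emat_apply, Emat_apply]
  by_cases hb : idx b = 0
  · by_cases h1 : p = dbl e a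
    · have h2 : p ≠ dbl e' b := by
        intro h'
        rw [h1] at h'
        rcases a with a | a <;> rcases b with b | b
        · simp only [dbl_inl, Sum.inl.injEq] at h'
          have hb' : b = 0 := hb
          rw [hb'] at h'
          exact h a h'
        · simp only [dbl_inl, dbl_inr, reduceCtorEq] at h'
        · simp only [dbl_inl, dbl_inr, reduceCtorEq] at h'
        · simp only [dbl_inr, Sum.inr.injEq] at h'
          have hb' : b = 0 := hb
          rw [hb'] at h'
          exact h a h'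
      rw [if_neg h2, zero_mul, mul_zero]
    · rw [if_neg h1, zero_mul]
  · rw [if_neg hb, mul_zero, mul_zero]

-- PIECE MCM
theorem blk_commute_i0 {κ : Type*} [Fintype κ] [DecidableEq κ] (e e' : Fin 2 ↪ κ)
    (h : ∀ a, e a ≠ e' 0) (g : Sp4 K) (g' : SL2 K) :
    Commute (blk e g) (blk e' (i0 K g')) := by
  have h1 := MCM_orth (K := K) e e' h
  have h2 : (Emat K e' * BLONG_P K)ᵀ * Emat K e = 0 := by
    have := congrArg Matrix.transpose h1
    rwa [Matrix.transpose_mul, Matrix.transpose_transpose, Matrix.transpose_zero] at this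
  apply Subtype.ext
  show blkMat e g.1 * blkMat e' (i0 K g' : Sp4 K).1 = blkMat e' (i0 K g' : Sp4 K).1 * blkMat e g.1
  rw [BLONG_blkMat]
  unfold blkMat
  set E := Emat K e
  set F := Emat K e' * BLONG_P K
  set X := g.1 - 1
  set Y := (i0 K g' : Sp4 K).1 - 1
  have t1 : E * X * Eᵀ * (F * Y * Fᵀ) = 0 := by
    calc E * X * Eᵀ * (F * Y * Fᵀ) = E * X * (Eᵀ * F) * Y * Fᵀ := by
          simp only [Matrix.mul_assoc]
      _ = 0 := by rw [h1]; simp
  have t2 : F * Y * Fᵀ * (E * X * Eᵀ) = 0 := by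
    calc F * Y * Fᵀ * (E * X * Eᵀ) = F * Y * (Fᵀ * E) * X * Eᵀ := by
          simp only [Matrix.mul_assoc]
      _ = 0 := by rw [h2]; simp
  rw [Matrix.mul_add, Matrix.add_mul, Matrix.add_mul, Matrix.one_mul, Matrix.mul_one, Matrix.one_mul,
    t1, Matrix.mul_add, Matrix.add_mul, Matrix.add_mul, Matrix.one_mul, Matrix.mul_one, Matrix.one_mul,
    t2]
  abel

end Cfsg.Agent.Helper9.PSp3
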