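import Mathlib
import Cfsg.Agent.Helper9.PSp3.Defs
import Cfsg.Agent.Helper1.SL3P.Main
import Cfsg.Agent.Helper84.PSpCard
import Cfsg.Agent.Helper64.SpBlk.P_BENT

/-!
# S2292, the case `m = 3` (`Sp₆`), piece (MLV) -- see `tools/helper9_psp3/README.md` (architect helper9).
-/

set_option autoImplicit false

namespace Cfsg.Agent.Helper9.PSp3

open Matrix Cfsg.Agent.Helper96.StC Cfsg.Agent.Helper96.StN Cfsg.Agent.Helper29.StCM
  Cfsg.Agent.Helper96.StemSLTwo Cfsg.Agent.Helper96.StPres Cfsg.Agent.Helper9.Sp4P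
  Cfsg.Agent.Helper1.SL3P Cfsg.Agent.Helper1.SLNP Cfsg.Agent.Helper15.PSp
  Cfsg.Agent.Helper64.SpBlk

universe u v

variable {K : Type u} [Field K] {D : Type v} [Group D]

theorem MLV_eAMat_transpose (d : Matrix (Fin 2) (Fin 2) K) : (eAMat K d)ᵀ = eAMat K dᵀ := by
  ext i j
  fin_cases i <;> fin_cases j <;> simp [eAMat]

theorem MLV_eAMat_e01 (d : Matrix (Fin 2) (Fin 2) K) (x y : Fin 2) :
    eAMat K d (e01' x) (e01' y) = d x y := by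
  fin_cases x <;> fin_cases y <;> simp [eAMat, e01']

theorem MLV_eAMat_two_left (d : Matrix (Fin 2) (Fin 2) K) (j : Fin 3) :
    eAMat K d 2 j = (1 : Matrix (Fin 3) (Fin 3) K) 2 j := by
  fin_cases j
  · simp [eAMat]
  · simp [eAMat]
  · show eAMat K d 2 2 = (1 : Matrix (Fin 3) (Fin 3) K) 2 2
    rw [Matrix.one_apply_eq]
    simp [eAMat]

theorem MLV_eAMat_two_right (d : Matrix (Fin 2) (Fin 2) K) (i : Fin 3) :
    eAMat K d i 2 = (1 : Matrix (Fin 3) (Fin 3) K) i 2 := by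
  fin_cases i
  · simp [eAMat]
  · simp [eAMat]
  · show eAMat K d 2 2 = (1 : Matrix (Fin 3) (Fin 3) K) 2 2
    rw [Matrix.one_apply_eq]
    simp [eAMat]

theorem MLV_cases (p : Fin 3 ⊕ Fin 3) :
    (∃ a : Fin 2 ⊕ Fin 2, p = dbl e01' a) ∨ p = Sum.inl 2 ∨ p = Sum.inr 2 := by
  rcases p with i | i <;> fin_cases i
  · exact Or.inl ⟨Sum.inl 0, rfl⟩
  · exact Or.inl ⟨Sum.inl 1, rfl⟩
  · exact Or.inr (Or.inl rfl)
  · exact Or.inl ⟨Sum.inr 0, rfl⟩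
  · exact Or.inl ⟨Sum.inr 1, rfl⟩
  · exact Or.inr (Or.inr rfl)

theorem MLV_notMem_inl : (Sum.inl 2 : Fin 3 ⊕ Fin 3) ∉ Set.range (dbl e01') := by
  rintro ⟨a, ha⟩
  rcases a with a | a
  · fin_cases a <;> simp [dbl, e01'] at ha
  · simp [dbl] at ha

theorem MLV_notMem_inr : (Sum.inr 2 : Fin 3 ⊕ Fin 3) ∉ Set.range (dbl e01') := by
  rintro ⟨a, ha⟩
  rcases a with a | a
  · simp [dbl] at ha
  · fin_cases a <;> simp [dbl, e01'] at ha

theorem MLV_fb_inl_left (a d : Matrix (Fin 2) (Fin 2) K) (q : Fin 3 ⊕ Fin 3) :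
    fromBlocks (eAMat K a) 0 0 (eAMat K d) (Sum.inl 2) q =
      (1 : Matrix (Fin 3 ⊕ Fin 3) (Fin 3 ⊕ Fin 3) K) (Sum.inl 2) q := by
  rcases q with j | j
  · rw [Matrix.fromBlocks_apply₁₁, MLV_eAMat_two_left, Matrix.one_apply, Matrix.one_apply]
    simp only [Sum.inl.injEq]
  · rw [Matrix.fromBlocks_apply₁₂, Matrix.one_apply, if_neg (by simp), Matrix.zero_apply]

theorem MLV_fb_inr_left (a d : Matrix (Fin 2) (Fin 2) K) (q : Fin 3 ⊕ Fin 3) :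
    fromBlocks (eAMat K a) 0 0 (eAMat K d) (Sum.inr 2) q =
      (1 : Matrix (Fin 3 ⊕ Fin 3) (Fin 3 ⊕ Fin 3) K) (Sum.inr 2) q := by
  rcases q with j | j
  · rw [Matrix.fromBlocks_apply₂₁, Matrix.one_apply, if_neg (by simp), Matrix.zero_apply]
  · rw [Matrix.fromBlocks_apply₂₂, MLV_eAMat_two_left, Matrix.one_apply, Matrix.one_apply]
    simp only [Sum.inr.injEq]

theorem MLV_fb_inl_right (a d : Matrix (Fin 2) (Fin 2) K) (p : Fin 3 ⊕ Fin 3) :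
    fromBlocks (eAMat K a) 0 0 (eAMat K d) p (Sum.inl 2) =
      (1 : Matrix (Fin 3 ⊕ Fin 3) (Fin 3 ⊕ Fin 3) K) p (Sum.inl 2) := by
  rcases p with i | i
  · rw [Matrix.fromBlocks_apply₁₁, MLV_eAMat_two_right, Matrix.one_apply, Matrix.one_apply]
    simp only [Sum.inl.injEq]
  · rw [Matrix.fromBlocks_apply₂₁, Matrix.one_apply, if_neg (by simp), Matrix.zero_apply]

theorem MLV_fb_inr_right (a d : Matrix (Fin 2) (Fin 2) K) (p : Fin 3 ⊕ Fin 3) :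
    fromBlocks (eAMat K a) 0 0 (eAMat K d) p (Sum.inr 2) =
      (1 : Matrix (Fin 3 ⊕ Fin 3) (Fin 3 ⊕ Fin 3) K) p (Sum.inr 2) := by
  rcases p with i | i
  · rw [Matrix.fromBlocks_apply₁₂, Matrix.one_apply, if_neg (by simp), Matrix.zero_apply]
  · rw [Matrix.fromBlocks_apply₂₂, MLV_eAMat_two_right, Matrix.one_apply, Matrix.one_apply]
    simp only [Sum.inr.injEq]

theorem MLV_blkMat_fromBlocks (a d : Matrix (Fin 2) (Fin 2) K) :
    blkMat e01' (fromBlocks a 0 0 d) = fromBlocks (eAMat K a) 0 0 (eAMat K d) := by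
  ext p q
  rcases MLV_cases p with ⟨x, rfl⟩ | rfl | rfl
  · rcases MLV_cases q with ⟨y, rfl⟩ | rfl | rfl
    · rw [blkMat_apply_dbl]
      rcases x with x | x <;> rcases y with y | y <;>
        simp only [dbl_inl, dbl_inr, Matrix.fromBlocks_apply₁₁, Matrix.fromBlocks_apply₁₂,
          Matrix.fromBlocks_apply₂₁, Matrix.fromBlocks_apply₂₂, MLV_eAMat_e01, Matrix.zero_apply]
    · rw [blkMat_apply_of_notMem _ _ _ _ (Or.inr MLV_notMem_inl), MLV_fb_inl_right]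
    · rw [blkMat_apply_of_notMem _ _ _ _ (Or.inr MLV_notMem_inr), MLV_fb_inr_right]
  · rw [blkMat_apply_of_notMem _ _ _ _ (Or.inl MLV_notMem_inl), MLV_fb_inl_left]
  · rw [blkMat_apply_of_notMem _ _ _ _ (Or.inl MLV_notMem_inr), MLV_fb_inr_left]

theorem MLV_jM3_eS4 (g : SL2 K) :
    jM3 K (eS4 K g) = Cfsg.Agent.Helper84.PSp.lvS 3 K (eA K g) := by
  apply Subtype.ext
  have hL : ((jM3 K (eS4 K g) : Matrix.symplecticGroup (Fin 3) K) :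
      Matrix (Fin 3 ⊕ Fin 3) (Fin 3 ⊕ Fin 3) K) =
      blkMat e01' (fromBlocks (g : Matrix (Fin 2) (Fin 2) K) 0 0
        ((g⁻¹ : SL2 K) : Matrix (Fin 2) (Fin 2) K)ᵀ) := by
    show blkMat e01' ((Cfsg.Agent.Helper9.Sp4P.eS K g : Matrix.symplecticGroup (Fin 2) K) :
      Matrix (Fin 2 ⊕ Fin 2) (Fin 2 ⊕ Fin 2) K) = _
    rw [coe_eS]
  have hR : ((Cfsg.Agent.Helper84.PSp.lvS 3 K (eA K g) : Matrix.symplecticGroup (Fin 3) K) :
      Matrix (Fin 3 ⊕ Fin 3) (Fin 3 ⊕ Fin 3) K) =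
      fromBlocks (eAMat K g.1) 0 0 (eAMat K (g⁻¹ : SL2 K).1)ᵀ := by
    rw [Cfsg.Agent.Helper84.PSp.lvS_apply, Cfsg.Agent.Helper84.PSp.coe_lv]
    have h1 : ((Matrix.SpecialLinearGroup.toGL (eA K g) : GL (Fin 3) K) :
        Matrix (Fin 3) (Fin 3) K) = eAMat K g.1 := rfl
    have h2 : (((Matrix.SpecialLinearGroup.toGL (eA K g))⁻¹ : GL (Fin 3) K) :
        Matrix (Fin 3) (Fin 3) K) = eAMat K (g⁻¹ : SL2 K).1 := by
      rw [← map_inv, ← map_inv]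
      rfl
    rw [h1, h2]
  rw [hL, hR, MLV_blkMat_fromBlocks, MLV_eAMat_transpose]

theorem MLV_pmMat_c3 : pmMat K c3 = !![0, 0, 1; 1, 0, 0; 0, 1, 0] := by
  ext i j
  have h0 : c3 0 = 1 := c3_zero
  have h1 : c3 1 = 2 := c3_one
  have h2 : c3 2 = 0 := c3_two
  fin_cases i <;> fin_cases j <;> simp [pmMat, h0, h1, h2]

theorem MLV_rho3_c3 : rho3 K c3 = Cfsg.Agent.Helper84.PSp.lvS 3 K (cM K) := by
  apply Subtype.ext
  have hL : ((rho3 K c3 : Matrix.symplecticGroup (Fin 3) K) :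
      Matrix (Fin 3 ⊕ Fin 3) (Fin 3 ⊕ Fin 3) K) = permSMat K c3 := rfl
  have hR : ((Cfsg.Agent.Helper84.PSp.lvS 3 K (cM K) : Matrix.symplecticGroup (Fin 3) K) :
      Matrix (Fin 3 ⊕ Fin 3) (Fin 3 ⊕ Fin 3) K) =
      fromBlocks (cM K).1 0 0 ((cM K * cM K : SL3 K).1)ᵀ := by
    rw [Cfsg.Agent.Helper84.PSp.lvS_apply, Cfsg.Agent.Helper84.PSp.coe_lv]
    have h1 : ((Matrix.SpecialLinearGroup.toGL (cM K) : GL (Fin 3) K) :
        Matrix (Fin 3) (Fin 3) K) = (cM K).1 := rfl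
    have h2 : (((Matrix.SpecialLinearGroup.toGL (cM K))⁻¹ : GL (Fin 3) K) :
        Matrix (Fin 3) (Fin 3) K) = (cM K * cM K : SL3 K).1 := by
      rw [← map_inv, MODO_cinv]
      rfl
    rw [h1, h2]
  rw [hL, hR, permSMat_eq_fromBlocks, MLV_pmMat_c3]
  have e1 : (cM K).1 = !![0, 0, 1; 1, 0, 0; 0, 1, 0] := coe_cM K
  have e2 : ((cM K * cM K : SL3 K).1)ᵀ = !![0, 0, 1; 1, 0, 0; 0, 1, 0] := by
    rw [Matrix.SpecialLinearGroup.coe_mul, e1]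
    ext i j
    fin_cases i <;> fin_cases j <;> simp
  rw [e1, e2]

-- PIECE MLV
theorem model_lvS :
    (∀ g : SL2 K, jM3 K (eS4 K g) = Cfsg.Agent.Helper84.PSp.lvS 3 K (eA K g)) ∧
    rho3 K c3 = Cfsg.Agent.Helper84.PSp.lvS 3 K (cM K) :=
  ⟨MLV_jM3_eS4, MLV_rho3_c3⟩

end Cfsg.Agent.Helper9.PSp3
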