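import Mathlib
import Cfsg.Agent.Helper9.PSp3.Defs

/-!
# S2292, the case `m = 3` (`Sp₆`), piece (MNS) -- see `tools/helper9_psp3/README.md` (architect helper9; piece by helper65).

`rho3 K (0 1) = jM3 K nS`: the 36 entries.  The imports are reduced to `PSp3.Defs` (the entry lemmas of helper64's
`P_BENT` are re-proved here as `MNS_*`, because `P_BENT` imports the whole `SLNP.Main` closure).
-/

set_option autoImplicit false

namespace Cfsg.Agent.Helper9.PSp3

open Matrix Cfsg.Agent.Helper9.Sp4P Cfsg.Agent.Helper15.PSp Cfsg.Agent.Helper64.SpBlk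

universe u v

variable {K : Type u} [Field K] {D : Type v} [Group D]

theorem MNS_Emat_mul_apply {ι κ α : Type*} [Fintype ι] [DecidableEq ι] [Fintype κ] [DecidableEq κ]
    (e : ι ↪ κ) (M : Matrix (ι ⊕ ι) α K) (a : ι ⊕ ι) (c : α) :
    (Emat K e * M) (dbl e a) c = M a c := by
  rw [Matrix.mul_apply, Finset.sum_eq_single a]
  · rw [Emat_apply, if_pos rfl, one_mul]
  · intro d _ hd
    rw [Emat_apply, if_neg (fun h => hd (dbl_injective e.injective h).symm), zero_mul]
  · intro h; exact absurd (Finset.mem_univ _) h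

theorem MNS_Emat_mul_apply_notMem {ι κ α : Type*} [Fintype ι] [DecidableEq ι] [Fintype κ] [DecidableEq κ]
    (e : ι ↪ κ) (M : Matrix (ι ⊕ ι) α K) (p : κ ⊕ κ) (c : α)
    (hp : p ∉ Set.range (dbl e)) : (Emat K e * M) p c = 0 := by
  rw [Matrix.mul_apply]
  apply Finset.sum_eq_zero
  intro d _
  rw [Emat_apply, if_neg (fun h => hp ⟨d, h.symm⟩), zero_mul]

theorem MNS_mul_Emat_transpose_apply {ι κ α : Type*} [Fintype ι] [DecidableEq ι] [Fintype κ] [DecidableEq κ]
    [Fintype α] (e : ι ↪ κ) (M : Matrix α (ι ⊕ ι) K)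
    (c : α) (b : ι ⊕ ι) : (M * (Emat K e)ᵀ) c (dbl e b) = M c b := by
  rw [Matrix.mul_apply, Finset.sum_eq_single b]
  · rw [Matrix.transpose_apply, Emat_apply, if_pos rfl, mul_one]
  · intro d _ hd
    rw [Matrix.transpose_apply, Emat_apply,
      if_neg (fun h => hd (dbl_injective e.injective h).symm), mul_zero]
  · intro h; exact absurd (Finset.mem_univ _) h

theorem MNS_mul_Emat_transpose_apply_notMem {ι κ α : Type*} [Fintype ι] [DecidableEq ι] [Fintype κ]
    [DecidableEq κ] [Fintype α] (e : ι ↪ κ)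
    (M : Matrix α (ι ⊕ ι) K) (c : α) (q : κ ⊕ κ) (hq : q ∉ Set.range (dbl e)) :
    (M * (Emat K e)ᵀ) c q = 0 := by
  rw [Matrix.mul_apply]
  apply Finset.sum_eq_zero
  intro d _
  rw [Matrix.transpose_apply, Emat_apply, if_neg (fun h => hq ⟨d, h.symm⟩), mul_zero]

theorem MNS_blkMat_apply_dbl {ι κ : Type*} [Fintype ι] [DecidableEq ι] [Fintype κ] [DecidableEq κ]
    (e : ι ↪ κ) (g : Matrix (ι ⊕ ι) (ι ⊕ ι) K) (a b : ι ⊕ ι) :
    blkMat e g (dbl e a) (dbl e b) = g a b := by
  unfold blkMat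
  rw [Matrix.add_apply, MNS_mul_Emat_transpose_apply, MNS_Emat_mul_apply, Matrix.sub_apply,
    Matrix.one_apply, Matrix.one_apply]
  by_cases hab : a = b
  · subst hab
    rw [if_pos rfl, if_pos rfl]
    ring
  · rw [if_neg hab, if_neg (fun h => hab (dbl_injective e.injective h))]
    ring

theorem MNS_blkMat_apply_of_notMem {ι κ : Type*} [Fintype ι] [DecidableEq ι] [Fintype κ] [DecidableEq κ]
    (e : ι ↪ κ) (g : Matrix (ι ⊕ ι) (ι ⊕ ι) K) (p q : κ ⊕ κ)
    (h : p ∉ Set.range (dbl e) ∨ q ∉ Set.range (dbl e)) :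
    blkMat e g p q = (1 : Matrix (κ ⊕ κ) (κ ⊕ κ) K) p q := by
  unfold blkMat
  rw [Matrix.add_apply]
  rcases h with h | h
  · rw [Matrix.mul_assoc, MNS_Emat_mul_apply_notMem e _ p q h, add_zero]
  · rw [MNS_mul_Emat_transpose_apply_notMem e _ p q h, add_zero]

/-- the index `2` is outside the block -/
theorem MNS_notMem_inl : (Sum.inl 2 : Fin 3 ⊕ Fin 3) ∉ Set.range (dbl e01') := by
  rintro ⟨a, ha⟩
  rcases a with a | a
  · rw [dbl_inl] at ha
    have := Sum.inl.inj ha
    fin_cases a <;> simp [e01'] at this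
  · rw [dbl_inr] at ha
    exact absurd ha (by simp)

theorem MNS_notMem_inr : (Sum.inr 2 : Fin 3 ⊕ Fin 3) ∉ Set.range (dbl e01') := by
  rintro ⟨a, ha⟩
  rcases a with a | a
  · rw [dbl_inl] at ha
    exact absurd ha (by simp)
  · rw [dbl_inr] at ha
    have := Sum.inr.inj ha
    fin_cases a <;> simp [e01'] at this

theorem MNS_cases (p : Fin 3 ⊕ Fin 3) :
    (∃ a : Fin 2 ⊕ Fin 2, p = dbl e01' a) ∨ p = Sum.inl 2 ∨ p = Sum.inr 2 := by
  rcases p with p | p <;> fin_cases p
  · exact Or.inl ⟨Sum.inl 0, rfl⟩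
  · exact Or.inl ⟨Sum.inl 1, rfl⟩
  · exact Or.inr (Or.inl rfl)
  · exact Or.inl ⟨Sum.inr 0, rfl⟩
  · exact Or.inl ⟨Sum.inr 1, rfl⟩
  · exact Or.inr (Or.inr rfl)

-- PIECE MNS
theorem model_ns : rho3 K s01 = jM3 K (nS K) := by
  apply Subtype.ext
  ext p q
  rw [coe_rho3]
  show _ = blkMat e01' (nSMat K) p q
  rcases MNS_cases p with ⟨a, rfl⟩ | rfl | rfl <;> rcases MNS_cases q with ⟨b, rfl⟩ | rfl | rfl
  · rw [MNS_blkMat_apply_dbl]
    show _ = if b = sw a then 1 else 0
    rcases a with a | a <;> rcases b with b | b <;> fin_cases a <;> fin_cases b <;>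
      exact if_congr (by decide) rfl rfl
  · rw [MNS_blkMat_apply_of_notMem _ _ _ _ (Or.inr MNS_notMem_inl), Matrix.one_apply]
    rcases a with a | a <;> fin_cases a <;> exact if_congr (by decide) rfl rfl
  · rw [MNS_blkMat_apply_of_notMem _ _ _ _ (Or.inr MNS_notMem_inr), Matrix.one_apply]
    rcases a with a | a <;> fin_cases a <;> exact if_congr (by decide) rfl rfl
  · rw [MNS_blkMat_apply_of_notMem _ _ _ _ (Or.inl MNS_notMem_inl), Matrix.one_apply]
    rcases b with b | b <;> fin_cases b <;> exact if_congr (by decide) rfl rfl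
  · rw [MNS_blkMat_apply_of_notMem _ _ _ _ (Or.inl MNS_notMem_inl), Matrix.one_apply]
    exact if_congr (by decide) rfl rfl
  · rw [MNS_blkMat_apply_of_notMem _ _ _ _ (Or.inl MNS_notMem_inl), Matrix.one_apply]
    exact if_congr (by decide) rfl rfl
  · rw [MNS_blkMat_apply_of_notMem _ _ _ _ (Or.inl MNS_notMem_inr), Matrix.one_apply]
    rcases b with b | b <;> fin_cases b <;> exact if_congr (by decide) rfl rfl
  · rw [MNS_blkMat_apply_of_notMem _ _ _ _ (Or.inl MNS_notMem_inr), Matrix.one_apply]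
    exact if_congr (by decide) rfl rfl
  · rw [MNS_blkMat_apply_of_notMem _ _ _ _ (Or.inl MNS_notMem_inr), Matrix.one_apply]
    exact if_congr (by decide) rfl rfl

end Cfsg.Agent.Helper9.PSp3
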