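import Mathlib
import Cfsg.Agent.Helper9.PSp3.Defs
import Cfsg.Agent.Helper1.SL3P.Main
import Cfsg.Agent.Helper1.SLNP.MainA
import Cfsg.Agent.Helper62.StCG2
import Cfsg.Agent.Helper84.PSpCard
import Cfsg.Agent.Helper1.PSpW.P_WID1
import Cfsg.Agent.Helper1.PSpW.P_WID2
import Cfsg.Agent.Helper1.PSpW.P_WID3
import Cfsg.Agent.Helper1.PSpW.P_WID4
import Cfsg.Agent.Helper1.PSpW.P_WCH
import Cfsg.Agent.Helper64.SpBlk.PermSConj
import Cfsg.Agent.Helper64.SpBlk.P_BENT
import Cfsg.Agent.Helper64.SpBlk.P_BLONG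
import Cfsg.Agent.Helper64.SpBlk.P_BSWAP
import Cfsg.Agent.Helper64.SpBlk.P_BCOMM
import Cfsg.Agent.Helper64.SpBlk.P_MXC
import Cfsg.Agent.Helper64.SpBlk.P_MGL
import Cfsg.Agent.Helper64.SpBlk.P_BSPT
import Cfsg.Agent.S2530

/-!
# S2292, the case `m = 3` (`Sp₆`), piece (S3P) -- see `tools/helper9_psp3/README.md` (architect helper9).
Save as `Cfsg/Agent/Helper9/PSp3/P_S3P.lean`; keep the PIECE statement verbatim; auxiliary names start with `S3P_`.
-/

set_option autoImplicit false

namespace Cfsg.Agent.Helper9.PSp3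

open Matrix Cfsg.Agent.Helper96.StC Cfsg.Agent.Helper96.StN Cfsg.Agent.Helper29.StCM
  Cfsg.Agent.Helper96.StemSLTwo Cfsg.Agent.Helper96.StPres Cfsg.Agent.Helper9.Sp4P
  Cfsg.Agent.Helper1.SL3P Cfsg.Agent.Helper1.SLNP Cfsg.Agent.Helper15.PSp
  Cfsg.Agent.Helper64.SpBlk

universe u v

variable {K : Type u} [Field K] {D : Type v} [Group D]

/-- the three relators `a²`, `b²`, `(ab)³` -/
def S3P_rels : Finset (FreeGroup (Fin 2)) :=
  {(CoxeterMatrix.A 2).relation 0 0, (CoxeterMatrix.A 2).relation 1 1, (CoxeterMatrix.A 2).relation 0 1}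

theorem S3P_card : S3P_rels.card ≤ 3 := Finset.card_le_three

theorem S3P_M01 : (CoxeterMatrix.A 2) 0 1 = 3 := by decide
theorem S3P_M10 : (CoxeterMatrix.A 2) 1 0 = 3 := by decide

/-- `(ba)³` is a conjugate of `(ab)³` -/
theorem S3P_conj : (CoxeterMatrix.A 2).relation 1 0 =
    (FreeGroup.of (0 : Fin 2))⁻¹ * (CoxeterMatrix.A 2).relation 0 1 * (FreeGroup.of (0 : Fin 2))⁻¹⁻¹ := by
  unfold CoxeterMatrix.relation
  rw [S3P_M01, S3P_M10]
  simp only [pow_succ, pow_zero, one_mul, inv_inv, mul_assoc, inv_mul_cancel_left]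

/-- the normal closures agree -/
theorem S3P_normalClosure :
    Subgroup.normalClosure (↑S3P_rels : Set (FreeGroup (Fin 2))) =
      Subgroup.normalClosure (CoxeterMatrix.A 2).relationsSet := by
  apply le_antisymm
  · apply Subgroup.normalClosure_mono
    intro x hx
    have hx' : x ∈ S3P_rels := hx
    unfold S3P_rels at hx'
    simp only [Finset.mem_insert, Finset.mem_singleton] at hx'
    rcases hx' with rfl | rfl | rfl
    · exact ⟨(0, 0), rfl⟩
    · exact ⟨(1, 1), rfl⟩
    · exact ⟨(0, 1), rfl⟩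
  · apply Subgroup.normalClosure_le_normal
    rintro x ⟨⟨i, j⟩, rfl⟩
    have h00 : (CoxeterMatrix.A 2).relation 0 0 ∈
        Subgroup.normalClosure (↑S3P_rels : Set (FreeGroup (Fin 2))) :=
      Subgroup.subset_normalClosure (by
        show _ ∈ S3P_rels
        unfold S3P_rels
        simp)
    have h11 : (CoxeterMatrix.A 2).relation 1 1 ∈
        Subgroup.normalClosure (↑S3P_rels : Set (FreeGroup (Fin 2))) :=
      Subgroup.subset_normalClosure (by
        show _ ∈ S3P_rels
        unfold S3P_rels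
        simp)
    have h01 : (CoxeterMatrix.A 2).relation 0 1 ∈
        Subgroup.normalClosure (↑S3P_rels : Set (FreeGroup (Fin 2))) :=
      Subgroup.subset_normalClosure (by
        show _ ∈ S3P_rels
        unfold S3P_rels
        simp)
    have h10 : (CoxeterMatrix.A 2).relation 1 0 ∈
        Subgroup.normalClosure (↑S3P_rels : Set (FreeGroup (Fin 2))) := by
      rw [S3P_conj]
      exact Subgroup.Normal.conj_mem inferInstance _ h01 _
    show Function.uncurry (CoxeterMatrix.A 2).relation (i, j) ∈ _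
    simp only [Function.uncurry_apply_pair]
    fin_cases i <;> fin_cases j
    · exact h00
    · exact h01
    · exact h10
    · exact h11

-- PIECE S3P
/-- `S₃ = ⟨a, b | a², b², (ab)³⟩`, with `a ↦ (0 1)`, `b ↦ (1 2)` -/
theorem s3_presentation :
    ∃ (rels : Finset (FreeGroup (Fin 2)))
      (e : PresentedGroup (↑rels : Set (FreeGroup (Fin 2))) ≃* S3), rels.card ≤ 3 := by
  obtain ⟨cs, -⟩ := Cfsg.Agent.S2530.result 2
  exact ⟨S3P_rels, (QuotientGroup.quotientMulEquivOfEq S3P_normalClosure).trans cs.mulEquiv.symm,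
    S3P_card⟩

end Cfsg.Agent.Helper9.PSp3
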