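import Mathlib
import Cfsg.Agent.Helper9.PSp3.Defs
import Cfsg.Agent.Helper1.SL3P.Main
import Cfsg.Agent.Helper1.SLNP.MainA
import Cfsg.Agent.Helper62.StCG2
import Cfsg.Agent.Helper84.PSpCard
import Cfsg.Agent.Helper1.PSpW.P_WID1
import Cfsg.Agent.Helper1.PSpW.P_WID2
import Cfsg.Agent.Helper1.PSpW.P_WID3
import Cfsg.Agent.Helper1.PSpW.P_WID4
import Cfsg.Agent.Helper1.PSpW.P_WCH
import Cfsg.Agent.Helper64.SpBlk.PermSConj
import Cfsg.Agent.Helper64.SpBlk.P_BENT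
import Cfsg.Agent.Helper64.SpBlk.P_BLONG
import Cfsg.Agent.Helper64.SpBlk.P_BSWAP
import Cfsg.Agent.Helper64.SpBlk.P_BCOMM
import Cfsg.Agent.Helper64.SpBlk.P_MXC
import Cfsg.Agent.Helper64.SpBlk.P_MGL
import Cfsg.Agent.Helper64.SpBlk.P_BSPT

/-!
# S2292, the case `m = 3` (`Sp₆`), piece (SFAM) -- see `tools/helper9_psp3/README.md` (architect helper9).
Save as `Cfsg/Agent/Helper9/PSp3/P_SFAM.lean`; keep the PIECE statement verbatim; auxiliary names start with `SFAM_`.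
-/

set_option autoImplicit false

namespace Cfsg.Agent.Helper9.PSp3

open Matrix Cfsg.Agent.Helper96.StC Cfsg.Agent.Helper96.StN Cfsg.Agent.Helper29.StCM
  Cfsg.Agent.Helper96.StemSLTwo Cfsg.Agent.Helper96.StPres Cfsg.Agent.Helper9.Sp4P
  Cfsg.Agent.Helper1.SL3P Cfsg.Agent.Helper1.SLNP Cfsg.Agent.Helper15.PSp
  Cfsg.Agent.Helper64.SpBlk

universe u v

variable {K : Type u} [Field K] {D : Type v} [Group D]

/-- the third point -/
theorem SFAM_third : ∀ (π : S3) (k : Fin 3), k ≠ π 0 → k ≠ π 1 → π 2 = k := by decide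

theorem SFAM_swap {a4 : Sp4 K →* D} {ρ : S3 →* D} (hG : GlueS a4 ρ) :
    ∀ i j : Fin 3, i ≠ j → ∀ g : Sp4 K, AF3 a4 ρ j i g = AF3 a4 ρ i j (nS K * g * (nS K)⁻¹) := by
  intro i j hij g
  obtain ⟨h0, h1⟩ := pick3_spec i j hij
  rw [AF3_eq a4 ρ j i hij.symm (pick3 i j * s01)
    (by rw [Equiv.Perm.mul_apply, show s01 0 = 1 from by decide, h1])
    (by rw [Equiv.Perm.mul_apply, show s01 1 = 0 from by decide, h0]), AF3_apply]
  simp only [map_mul, map_inv, ← hG.ns]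
  group

theorem SFAM_long {a4 : Sp4 K →* D} {ρ : S3 →* D} (hG : GlueS a4 ρ) :
    ∀ i j j' : Fin 3, i ≠ j → i ≠ j' → ∀ g : SL2 K,
      AF3 a4 ρ i j (i0 K g) = AF3 a4 ρ i j' (i0 K g) := by
  intro i j j' hij hij' g
  by_cases hjj : j = j'
  · rw [hjj]
  obtain ⟨h0, h1⟩ := pick3_spec i j hij
  have h2 : pick3 i j 2 = j' :=
    SFAM_third _ _ (by rw [h0]; exact fun h => hij' h.symm) (by rw [h1]; exact fun h => hjj h.symm)
  rw [AF3_eq a4 ρ i j' hij' (pick3 i j * s12)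
    (by rw [Equiv.Perm.mul_apply, show s12 0 = 0 from by decide, h0])
    (by rw [Equiv.Perm.mul_apply, show s12 1 = 2 from by decide, h2]), AF3_apply, map_mul]
  have hc := (hG.lg g).eq
  have e : ρ s12 * a4 (i0 K g) * (ρ s12)⁻¹ = a4 (i0 K g) := by rw [hc, mul_inv_cancel_right]
  have e2 : ρ (pick3 i j) * ρ s12 * a4 (i0 K g) * (ρ (pick3 i j) * ρ s12)⁻¹
      = ρ (pick3 i j) * (ρ s12 * a4 (i0 K g) * (ρ s12)⁻¹) * (ρ (pick3 i j))⁻¹ := by group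
  rw [e2, e]

theorem SFAM_djl {a4 : Sp4 K →* D} {ρ : S3 →* D} (hG : GlueS a4 ρ) :
    ∀ i j k l : Fin 3, i ≠ j → k ≠ l → k ≠ i → k ≠ j → ∀ (g : Sp4 K) (g' : SL2 K),
      Commute (AF3 a4 ρ i j g) (AF3 a4 ρ k l (i0 K g')) := by
  intro i j k l hij hkl hki hkj g g'
  obtain ⟨h0, h1⟩ := pick3_spec i j hij
  have h2 : pick3 i j 2 = k := SFAM_third _ _ (by rw [h0]; exact hki) (by rw [h1]; exact hkj)
  rw [SFAM_long hG k l j hkl hkj g']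
  rw [AF3_eq a4 ρ k j hkj (pick3 i j * s02)
    (by rw [Equiv.Perm.mul_apply, show s02 0 = 2 from by decide, h2])
    (by rw [Equiv.Perm.mul_apply, show s02 1 = 1 from by decide, h1]), AF3_apply, map_mul]
  have e : ρ (pick3 i j) * ρ s02 * a4 (i0 K g') * (ρ (pick3 i j) * ρ s02)⁻¹
      = ρ (pick3 i j) * (ρ s02 * a4 (i0 K g') * (ρ s02)⁻¹) * (ρ (pick3 i j))⁻¹ := by group
  rw [e]
  exact (Commute.conj_iff (ρ (pick3 i j))).mpr (hG.djl g g')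

-- PIECE SFAM
theorem fam3_base {a4 : Sp4 K →* D} {ρ : S3 →* D} (hG : GlueS a4 ρ) :
    (∀ i j : Fin 3, i ≠ j → ∀ g : Sp4 K, AF3 a4 ρ j i g = AF3 a4 ρ i j (nS K * g * (nS K)⁻¹)) ∧
    (∀ i j j' : Fin 3, i ≠ j → i ≠ j' → ∀ g : SL2 K,
      AF3 a4 ρ i j (i0 K g) = AF3 a4 ρ i j' (i0 K g)) ∧
    (∀ i j k l : Fin 3, i ≠ j → k ≠ l → k ≠ i → k ≠ j → ∀ (g : Sp4 K) (g' : SL2 K),
      Commute (AF3 a4 ρ i j g) (AF3 a4 ρ k l (i0 K g'))) :=
  ⟨SFAM_swap hG, SFAM_long hG, SFAM_djl hG⟩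

end Cfsg.Agent.Helper9.PSp3
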