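import Mathlib
import Cfsg.Agent.Helper9.PSp3.Defs
import Cfsg.Agent.Helper1.SL3P.Main
import Cfsg.Agent.Helper1.SLNP.MainA
import Cfsg.Agent.Helper62.StCG2
import Cfsg.Agent.Helper84.PSpCard
import Cfsg.Agent.Helper1.PSpW.P_WID1
import Cfsg.Agent.Helper1.PSpW.P_WID2
import Cfsg.Agent.Helper1.PSpW.P_WID3
import Cfsg.Agent.Helper1.PSpW.P_WID4
import Cfsg.Agent.Helper1.PSpW.P_WCH
import Cfsg.Agent.Helper64.SpBlk.PermSConj
import Cfsg.Agent.Helper64.SpBlk.P_BENT
import Cfsg.Agent.Helper64.SpBlk.P_BLONG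
import Cfsg.Agent.Helper64.SpBlk.P_BSWAP
import Cfsg.Agent.Helper64.SpBlk.P_BCOMM
import Cfsg.Agent.Helper64.SpBlk.P_MXC
import Cfsg.Agent.Helper64.SpBlk.P_MGL
import Cfsg.Agent.Helper64.SpBlk.P_BSPT

/-!
# S2292, the case `m = 3` (`Sp₆`), piece (SGEN) -- see `tools/helper9_psp3/README.md` (architect helper9).
Proof: helper41 (board #14045).
-/

set_option autoImplicit false

namespace Cfsg.Agent.Helper9.PSp3

open Matrix Cfsg.Agent.Helper96.StC Cfsg.Agent.Helper96.StN Cfsg.Agent.Helper29.StCM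
  Cfsg.Agent.Helper96.StemSLTwo Cfsg.Agent.Helper96.StPres Cfsg.Agent.Helper9.Sp4P
  Cfsg.Agent.Helper1.SL3P Cfsg.Agent.Helper1.SLNP Cfsg.Agent.Helper15.PSp
  Cfsg.Agent.Helper64.SpBlk

universe u v

variable {K : Type u} [Field K] {D : Type v} [Group D]

-- PIECE SGEN
theorem glueS_of_gen {a4 : Sp4 K →* D} {ρ : S3 →* D} {z : Kˣ} {l1 l2 : Sp4 K}
    (hgen : Subgroup.closure {uMat K 1, dMat (z : K) z.ne_zero, WU (1 : K)} = ⊤)
    (hl : Subgroup.closure ({l1, l2} : Set (Sp4 K)) = ⊤)
    (hG : GlueGenS a4 ρ z l1 l2) : GlueS a4 ρ := by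
  -- `lg`
  have hlg : ∀ g : SL2 K, Commute (ρ s12) (a4 (i0 K g)) := by
    intro g
    have hg : g ∈ Subgroup.closure {uMat K 1, dMat (z : K) z.ne_zero, WU (1 : K)} := by
      rw [hgen]; exact Subgroup.mem_top g
    induction hg using Subgroup.closure_induction with
    | mem x hx =>
      rcases hx with rfl | rfl | hx
      · exact hG.lu
      · exact hG.lh
      · rw [Set.mem_singleton_iff] at hx
        subst hx
        exact hG.lw
    | one => rw [map_one, map_one]; exact Commute.one_right _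
    | mul x y _ _ hx hy => rw [map_mul, map_mul]; exact hx.mul_right hy
    | inv x _ hx => rw [map_inv, map_inv]; exact hx.inv_right
  -- `djl` for the three generators `g'` and all `g`
  have hd : ∀ g' ∈ ({uMat K 1, dMat (z : K) z.ne_zero, WU (1 : K)} : Set (SL2 K)), ∀ g : Sp4 K,
      Commute (a4 g) (ρ s02 * a4 (i0 K g') * (ρ s02)⁻¹) := by
    intro g' hg' g
    have hg : g ∈ Subgroup.closure ({l1, l2} : Set (Sp4 K)) := by
      rw [hl]; exact Subgroup.mem_top g
    induction hg using Subgroup.closure_induction with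
    | mem x hx =>
      rcases hx with rfl | hx
      · rcases hg' with rfl | rfl | hg'
        · exact hG.d1u
        · exact hG.d1h
        · rw [Set.mem_singleton_iff] at hg'
          subst hg'
          exact hG.d1w
      · rw [Set.mem_singleton_iff] at hx
        subst hx
        rcases hg' with rfl | rfl | hg'
        · exact hG.d2u
        · exact hG.d2h
        · rw [Set.mem_singleton_iff] at hg'
          subst hg'
          exact hG.d2w
    | one => rw [map_one]; exact Commute.one_left _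
    | mul x y _ _ hx hy => rw [map_mul]; exact hx.mul_left hy
    | inv x _ hx => rw [map_inv]; exact hx.inv_left
  -- `djl` for all `g'`
  have hdjl : ∀ (g : Sp4 K) (g' : SL2 K), Commute (a4 g) (ρ s02 * a4 (i0 K g') * (ρ s02)⁻¹) := by
    intro g g'
    have hg' : g' ∈ Subgroup.closure {uMat K 1, dMat (z : K) z.ne_zero, WU (1 : K)} := by
      rw [hgen]; exact Subgroup.mem_top g'
    induction hg' using Subgroup.closure_induction with
    | mem x hx => exact hd x hx g
    | one =>
      rw [map_one, map_one, mul_one, mul_inv_cancel]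
      exact Commute.one_right _
    | mul x y _ _ hx hy =>
      have e : ρ s02 * a4 (i0 K (x * y)) * (ρ s02)⁻¹ =
          (ρ s02 * a4 (i0 K x) * (ρ s02)⁻¹) * (ρ s02 * a4 (i0 K y) * (ρ s02)⁻¹) := by
        rw [map_mul, map_mul]; group
      rw [e]
      exact hx.mul_right hy
    | inv x _ hx =>
      have e : ρ s02 * a4 (i0 K x⁻¹) * (ρ s02)⁻¹ = (ρ s02 * a4 (i0 K x) * (ρ s02)⁻¹)⁻¹ := by
        rw [map_inv, map_inv]; group
      rw [e]
      exact hx.inv_right
  exact ⟨hG.ns, hlg, hdjl⟩

end Cfsg.Agent.Helper9.PSp3
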