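import Mathlib
import Cfsg.Agent.Helper9.PSp3.Defs
import Cfsg.Agent.Helper1.SL3P.Main
import Cfsg.Agent.Helper1.SLNP.MainA
import Cfsg.Agent.Helper62.StCG2
import Cfsg.Agent.Helper84.PSpCard
import Cfsg.Agent.Helper1.PSpW.P_WID1
import Cfsg.Agent.Helper1.PSpW.P_WID2
import Cfsg.Agent.Helper1.PSpW.P_WID3
import Cfsg.Agent.Helper1.PSpW.P_WID4
import Cfsg.Agent.Helper1.PSpW.P_WCH
import Cfsg.Agent.Helper64.SpBlk.PermSConj
import Cfsg.Agent.Helper64.SpBlk.P_BENT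
import Cfsg.Agent.Helper64.SpBlk.P_BLONG
import Cfsg.Agent.Helper64.SpBlk.P_BSWAP
import Cfsg.Agent.Helper64.SpBlk.P_BCOMM
import Cfsg.Agent.Helper64.SpBlk.P_MXC
import Cfsg.Agent.Helper64.SpBlk.P_MGL
import Cfsg.Agent.Helper64.SpBlk.P_BSPT
import Cfsg.Agent.Helper15.PSp.P_EM

/-!
# S2292, the case `m = 3` (`Sp₆`), piece (SGX) -- see `tools/helper9_psp3/README.md` (architect helper9).
Save as `Cfsg/Agent/Helper9/PSp3/P_SGX.lean`; keep the PIECE statement verbatim; auxiliary names start with `SGX_`.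
-/

set_option autoImplicit false

namespace Cfsg.Agent.Helper9.PSp3

open Matrix Cfsg.Agent.Helper96.StC Cfsg.Agent.Helper96.StN Cfsg.Agent.Helper29.StCM
  Cfsg.Agent.Helper96.StemSLTwo Cfsg.Agent.Helper96.StPres Cfsg.Agent.Helper9.Sp4P
  Cfsg.Agent.Helper1.SL3P Cfsg.Agent.Helper1.SLNP Cfsg.Agent.Helper15.PSp
  Cfsg.Agent.Helper64.SpBlk

universe u v

variable {K : Type u} [Field K] {D : Type v} [Group D]

/-- `AF3 a4 ρ 0 1 = a4` -/
theorem SGX_af01 (a4 : Sp4 K →* D) (ρ : S3 →* D) (g : Sp4 K) : AF3 a4 ρ 0 1 g = a4 g := by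
  rw [AF3_eq a4 ρ 0 1 (by decide) 1 rfl rfl, map_one, one_mul, inv_one, mul_one]

-- PIECE SGX
theorem gen_XC3 {a4 : Sp4 K →* D} {ρ : S3 →* D} (o : Fin 3 → Fin 3)
    (hsp : Subgroup.closure {g : Sp4 K | ∃ p q, p ≠ q ∧ ∃ t, g = spT p q t} = ⊤)
    (hns : ρ s01 = a4 (nS K))
    (hkey : ∀ (i j : Fin 3), i ≠ j → ∀ p q : Fin 2 ⊕ Fin 2, p ≠ q → ∀ t : K,
      XC (AF3 a4 ρ) o (em i j p) (em i j q) t = AF3 a4 ρ i j (spT p q t))
    (htop : a4.range ⊔ ρ.range = ⊤) :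
    Subgroup.closure {g | ∃ p q, p ≠ q ∧ ∃ t, g = XC (AF3 a4 ρ) o p q t} = ⊤ := by
  set H : Subgroup D :=
    Subgroup.closure {g | ∃ p q, p ≠ q ∧ ∃ t, g = XC (AF3 a4 ρ) o p q t} with hH
  have hem : ∀ i j : Fin 3, i ≠ j → Function.Injective (em i j) :=
    fun i j hij => em_injective hij
  have hXC : ∀ (i j : Fin 3), i ≠ j → ∀ p q : Fin 2 ⊕ Fin 2, p ≠ q → ∀ t : K,
      AF3 a4 ρ i j (spT p q t) ∈ H := by
    intro i j hij p q hpq t
    rw [← hkey i j hij p q hpq t]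
    apply Subgroup.subset_closure
    exact ⟨em i j p, em i j q, fun h => hpq (hem i j hij h), t, rfl⟩
  have hAF : ∀ (i j : Fin 3), i ≠ j → (AF3 a4 ρ i j).range ≤ H := by
    intro i j hij
    rw [MonoidHom.range_eq_map, ← hsp, MonoidHom.map_closure, Subgroup.closure_le]
    rintro _ ⟨_, ⟨p, q, hpq, t, rfl⟩, rfl⟩
    exact hXC i j hij p q hpq t
  have haH : a4.range ≤ H := by
    rintro _ ⟨g, rfl⟩
    rw [← SGX_af01 a4 ρ g]
    exact hAF 0 1 (by decide) ⟨g, rfl⟩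
  have h01 : ρ s01 ∈ H := by
    rw [hns]; exact haH ⟨_, rfl⟩
  have h12 : ρ s12 ∈ H := by
    have e : ρ s12 = AF3 a4 ρ 1 2 (nS K) := by
      rw [AF3_eq a4 ρ 1 2 (by decide) c3 c3_zero c3_one, ← hns, s12_eq, map_mul, map_mul, map_inv]
    rw [e]
    exact hAF 1 2 (by decide) ⟨_, rfl⟩
  have hρH : ρ.range ≤ H := by
    rw [MonoidHom.range_eq_map, ← closure_s01_s12, MonoidHom.map_closure, Subgroup.closure_le]
    rintro _ ⟨x, hx, rfl⟩
    rcases hx with rfl | hx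
    · exact h01
    · rw [Set.mem_singleton_iff] at hx
      rw [hx]; exact h12
  rw [eq_top_iff, ← htop]
  exact sup_le haH hρH

end Cfsg.Agent.Helper9.PSp3
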