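import Mathlib
import Cfsg.Agent.Helper9.PSp3.Defs
import Cfsg.Agent.Helper1.SL3P.Main
import Cfsg.Agent.Helper1.SLNP.MainA
import Cfsg.Agent.Helper62.StCG2
import Cfsg.Agent.Helper84.PSpCard
import Cfsg.Agent.Helper1.PSpW.P_WID1
import Cfsg.Agent.Helper1.PSpW.P_WID2
import Cfsg.Agent.Helper1.PSpW.P_WID3
import Cfsg.Agent.Helper1.PSpW.P_WID4
import Cfsg.Agent.Helper1.PSpW.P_WCH
import Cfsg.Agent.Helper64.SpBlk.PermSConj
import Cfsg.Agent.Helper64.SpBlk.P_BENT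
import Cfsg.Agent.Helper64.SpBlk.P_BLONG
import Cfsg.Agent.Helper64.SpBlk.P_BSWAP
import Cfsg.Agent.Helper64.SpBlk.P_BCOMM
import Cfsg.Agent.Helper64.SpBlk.P_MXC
import Cfsg.Agent.Helper64.SpBlk.P_MGL
import Cfsg.Agent.Helper64.SpBlk.P_BSPT
import Cfsg.Agent.Helper1.SLNP.P_XYEQ

/-!
# S2292, the case `m = 3` (`Sp₆`), piece (STA) -- see `tools/helper9_psp3/README.md` (architect helper9).
Save as `Cfsg/Agent/Helper9/PSp3/P_STA.lean`; keep the PIECE statement verbatim; auxiliary names start with `STA_`.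
-/

set_option autoImplicit false

namespace Cfsg.Agent.Helper9.PSp3

open Matrix Cfsg.Agent.Helper96.StC Cfsg.Agent.Helper96.StN Cfsg.Agent.Helper29.StCM
  Cfsg.Agent.Helper96.StemSLTwo Cfsg.Agent.Helper96.StPres Cfsg.Agent.Helper9.Sp4P
  Cfsg.Agent.Helper1.SL3P Cfsg.Agent.Helper1.SLNP Cfsg.Agent.Helper15.PSp
  Cfsg.Agent.Helper64.SpBlk

universe u v

variable {K : Type u} [Field K] {D : Type v} [Group D]

/-- conjugation by `ρ s01 = a4 nS` turns the upper root element into the lower one -/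
theorem STA_conj (a4 : Sp4 K →* D) (ρ : S3 →* D) (hns : ρ s01 = a4 (nS K)) (t : K) :
    ρ s01 * a4 (spT (Sum.inl 0) (Sum.inl 1) t) * (ρ s01)⁻¹ = a4 (eS4 K (lMat K t)) := by
  rw [hns, ← map_inv, ← map_mul, ← map_mul, ← eS4_uMat, nS_eS4, ← XYEQ_lMat_eq_flip]

/-- the family `AF3` on the root element `spT 0 1` is helper1's `X3` -/
theorem STA_eq {a4 : Sp4 K →* D} {ρ : S3 →* D} (hns : ρ s01 = a4 (nS K)) :
    ∀ (i j : Fin 3), i ≠ j → ∀ t : K,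
      AF3 a4 ρ i j (spT (Sum.inl 0) (Sum.inl 1) t) = X3 (a4.comp (eS4 K)) (ρ c3) i j t := by
  intro i j hij t
  fin_cases i <;> fin_cases j
  · exact absurd rfl hij
  · -- (0, 1)
    show AF3 a4 ρ 0 1 _ = xe (a4.comp (eS4 K)) t
    rw [AF3_eq a4 ρ 0 1 (by decide) 1 rfl rfl, map_one, one_mul, inv_one, mul_one, ← eS4_uMat]
    rfl
  · -- (0, 2)
    show AF3 a4 ρ 0 2 _ = ρ c3 * ρ c3 * ye (a4.comp (eS4 K)) t * (ρ c3 * ρ c3)⁻¹
    rw [AF3_eq a4 ρ 0 2 (by decide) (c3 * c3 * s01) (by decide) (by decide)]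
    have e : ρ (c3 * c3 * s01) * a4 (spT (Sum.inl 0) (Sum.inl 1) t) * (ρ (c3 * c3 * s01))⁻¹
        = ρ c3 * ρ c3 * (ρ s01 * a4 (spT (Sum.inl 0) (Sum.inl 1) t) * (ρ s01)⁻¹)
          * (ρ c3 * ρ c3)⁻¹ := by
      rw [map_mul, map_mul]; group
    rw [e, STA_conj a4 ρ hns t]
    rfl
  · -- (1, 0)
    show AF3 a4 ρ 1 0 _ = ye (a4.comp (eS4 K)) t
    rw [AF3_eq a4 ρ 1 0 (by decide) s01 (by decide) (by decide), STA_conj a4 ρ hns t]
    rfl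
  · exact absurd rfl hij
  · -- (1, 2)
    show AF3 a4 ρ 1 2 _ = ρ c3 * xe (a4.comp (eS4 K)) t * (ρ c3)⁻¹
    rw [AF3_eq a4 ρ 1 2 (by decide) c3 c3_zero c3_one, ← eS4_uMat]
    rfl
  · -- (2, 0)
    show AF3 a4 ρ 2 0 _ = ρ c3 * ρ c3 * xe (a4.comp (eS4 K)) t * (ρ c3 * ρ c3)⁻¹
    rw [AF3_eq a4 ρ 2 0 (by decide) (c3 * c3) (by decide) (by decide), map_mul, ← eS4_uMat]
    rfl
  · -- (2, 1)
    show AF3 a4 ρ 2 1 _ = ρ c3 * ye (a4.comp (eS4 K)) t * (ρ c3)⁻¹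
    rw [AF3_eq a4 ρ 2 1 (by decide) (c3 * s01) (by decide) (by decide)]
    have e : ρ (c3 * s01) * a4 (spT (Sum.inl 0) (Sum.inl 1) t) * (ρ (c3 * s01))⁻¹
        = ρ c3 * (ρ s01 * a4 (spT (Sum.inl 0) (Sum.inl 1) t) * (ρ s01)⁻¹) * (ρ c3)⁻¹ := by
      rw [map_mul]; group
    rw [e, STA_conj a4 ρ hns t]
    rfl
  · exact absurd rfl hij

-- PIECE STA
theorem fam3_typeA {a4 : Sp4 K →* D} {ρ : S3 →* D}
    (hns : ρ s01 = a4 (nS K))
    (h3 : StRel (X3 (a4.comp (eS4 K)) (ρ c3))) :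
    StRel (fun (i j : Fin 3) (t : K) => AF3 a4 ρ i j (spT (Sum.inl 0) (Sum.inl 1) t)) := by
  refine ⟨?_, ?_, ?_⟩
  · intro i j hij t u
    simp only [STA_eq hns i j hij]
    exact h3.add i j hij t u
  · intro i j k l hij hkl hjk hil t u
    simp only [STA_eq hns i j hij, STA_eq hns k l hkl]
    exact h3.comm i j k l hij hkl hjk hil t u
  · intro i j l hij hjl hil t u
    simp only [STA_eq hns i j hij, STA_eq hns j l hjl, STA_eq hns i l hil]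
    exact h3.mul i j l hij hjl hil t u

end Cfsg.Agent.Helper9.PSp3
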