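import Mathlib
import Cfsg.Agent.Helper9.PSp3.Defs
import Cfsg.Agent.Helper1.SL3P.Main
import Cfsg.Agent.Helper1.SLNP.MainA
import Cfsg.Agent.Helper62.StCG2
import Cfsg.Agent.Helper84.PSpCard
import Cfsg.Agent.Helper1.PSpW.P_WID1
import Cfsg.Agent.Helper1.PSpW.P_WID2
import Cfsg.Agent.Helper1.PSpW.P_WID3
import Cfsg.Agent.Helper1.PSpW.P_WID4
import Cfsg.Agent.Helper1.PSpW.P_WCH
import Cfsg.Agent.Helper64.SpBlk.PermSConj
import Cfsg.Agent.Helper64.SpBlk.P_BENT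
import Cfsg.Agent.Helper64.SpBlk.P_BLONG
import Cfsg.Agent.Helper64.SpBlk.P_BSWAP
import Cfsg.Agent.Helper64.SpBlk.P_BCOMM
import Cfsg.Agent.Helper9.PSp3.P_S3P
import Cfsg.Agent.Helper9.PSp3.P_SGEN
import Cfsg.Agent.Helper9.PSp3.P_SFAM
import Cfsg.Agent.Helper9.PSp3.P_STA
import Cfsg.Agent.Helper9.PSp3.P_SGX
import Cfsg.Agent.Helper9.PSp3.P_MNS
import Cfsg.Agent.Helper9.PSp3.P_MCM
import Cfsg.Agent.Helper9.PSp3.P_MLV
import Cfsg.Agent.Helper64.SpBlk.P_MXC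
import Cfsg.Agent.Helper64.SpBlk.P_MGL
import Cfsg.Agent.Helper64.SpBlk.P_BSPT

/-!
# S2292, the case `m = 3` (`Sp₆`): the W-part and the model (architect helper9)

Pieces (farm #14045): S3P (helper93), SGEN, SFAM (helper41), STA, SGX (helper89), MNS (helper65), MCM, MLV (helper22).
-/

set_option autoImplicit false

namespace Cfsg.Agent.Helper9.PSp3

open Matrix Cfsg.Agent.Helper96.StC Cfsg.Agent.Helper96.StN Cfsg.Agent.Helper29.StCM
  Cfsg.Agent.Helper96.StemSLTwo Cfsg.Agent.Helper96.StPres Cfsg.Agent.Helper9.Sp4P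
  Cfsg.Agent.Helper1.SL3P Cfsg.Agent.Helper1.SLNP Cfsg.Agent.Helper15.PSp
  Cfsg.Agent.Helper64.SpBlk

universe u v

variable {K : Type u} [Field K] {D : Type v} [Group D]

/-! ## the presentation of `S₃` -/

/-! ## from generators to all elements -/

/-! ## the family `AF3 a4 ρ` -/

theorem fam_of_glueS {a4 : Sp4 K →* D} {ρ : S3 →* D} (hG : GlueS a4 ρ)
    (h3 : StRel (X3 (a4.comp (eS4 K)) (ρ c3))) : Fam (AF3 a4 ρ) := by
  obtain ⟨hsw, hlo, hdjl⟩ := fam3_base hG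
  refine ⟨hsw, hlo, ?_, hdjl, fam3_typeA hG.ns h3⟩
  intro i j k l hij hkl hki hkj hli hlj
  exfalso
  revert i j k l
  decide

/-! ## the cross relations -/

theorem conj_c3_i0 {a4 : Sp4 K →* D} {ρ : S3 →* D} (hG : GlueS a4 ρ) (g : SL2 K) :
    ρ c3 * a4 (i0 K g) * (ρ c3)⁻¹ = a4 (nS K * i0 K g * (nS K)⁻¹) := by
  have h := (hG.lg g).eq
  have e : ρ c3 = ρ s01 * ρ s12 := by rw [← map_mul]; rfl
  rw [e, map_mul, map_mul, map_inv, ← hG.ns]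
  calc ρ s01 * ρ s12 * a4 (i0 K g) * (ρ s01 * ρ s12)⁻¹
      = ρ s01 * (ρ s12 * a4 (i0 K g)) * (ρ s12)⁻¹ * (ρ s01)⁻¹ := by group
    _ = ρ s01 * a4 (i0 K g) * (ρ s01)⁻¹ := by rw [h]; group

theorem conj_c3_i1 {a4 : Sp4 K →* D} {ρ : S3 →* D} (hG : GlueS a4 ρ) (g : SL2 K) :
    ρ c3 * a4 (nS K * i0 K g * (nS K)⁻¹) * (ρ c3)⁻¹ = ρ s02 * a4 (i0 K g) * (ρ s02)⁻¹ := by
  rw [← c3_mul_s01, map_mul ρ, map_mul a4, map_mul a4, map_inv a4, ← hG.ns]
  group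

theorem conj_H1_S {a4 : Sp4 K →* D} {ρ : S3 →* D} (z : Kˣ) (hG : GlueS a4 ρ) (g : Sp4 K) :
    (ρ c3 * he (a4.comp (eS4 K)) z * (ρ c3)⁻¹) * a4 g *
      (ρ c3 * he (a4.comp (eS4 K)) z * (ρ c3)⁻¹)⁻¹ =
      a4 ((nS K * i0 K (dMat (z : K) z.ne_zero) * (nS K)⁻¹) * g *
        (nS K * i0 K (dMat (z : K) z.ne_zero) * (nS K)⁻¹)⁻¹) := by
  have hhe : he (a4.comp (eS4 K)) z = a4 (i0 K (dMat (z : K) z.ne_zero)) *
      (a4 (nS K * i0 K (dMat (z : K) z.ne_zero) * (nS K)⁻¹))⁻¹ := by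
    change a4 (eS4 K (dMat (z : K) z.ne_zero)) = _
    rw [eS4_dMat z, map_mul, map_inv]
  rw [hhe]
  exact WCH_aux a4 (ρ c3) (ρ s02 * a4 (i0 K (dMat (z : K) z.ne_zero)) * (ρ s02)⁻¹)
    (i0 K (dMat (z : K) z.ne_zero)) (nS K * i0 K (dMat (z : K) z.ne_zero) * (nS K)⁻¹) g
    (conj_c3_i0 hG _) (conj_c3_i1 hG _) (hG.djl g _).eq.symm

theorem crossB_of_cross2_S {a4 : Sp4 K →* D} {ρ : S3 →* D} (z : Kˣ) (hG : GlueS a4 ρ)
    (hC : Cross2 (a4.comp (eS4 K)) (ρ c3)) :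
    CrossB (a4.comp (eS4 K)) (ρ c3) z := by
  obtain ⟨i1, i2, i3⟩ := i1_act (K := K) z
  have hH1 := conj_H1_S z hG
  set d1 : Sp4 K := nS K * i0 K (dMat (z : K) z.ne_zero) * (nS K)⁻¹ with hd1
  set a := a4.comp (eS4 K) with ha
  set c := ρ c3 with hc
  have hxe : ∀ t : K, xe a t = a4 (eS4 K (uMat K t)) := fun t => rfl
  have hhe : he a z = a4 (eS4 K (dMat (z : K) z.ne_zero)) := rfl
  have hwe : we a = a4 (eS4 K (WU (1 : K))) := rfl
  refine ⟨?_, hC.cw, ?_, ?_, ?_, hC.mul⟩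
  · rw [hc, ← map_mul, ← map_mul, c3_cube, map_one]
  · have h := hH1 (eS4 K (dMat (z : K) z.ne_zero))
    rw [i1.eq, mul_inv_cancel_right] at h
    unfold Commute SemiconjBy
    rw [hhe]
    exact mul_inv_eq_iff_eq_mul.1 h
  · have h := hH1 (eS4 K (uMat K 1))
    rw [i2] at h
    rw [hxe, hxe]
    exact h
  · have h := hH1 (eS4 K (WU (1 : K)))
    rw [i3, map_mul, map_inv] at h
    rw [hwe, hhe]
    exact h

theorem stRel_X3_of_cross2_S [Fintype K] {a4 : Sp4 K →* D} {ρ : S3 →* D} {z : Kˣ}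
    (hz : ∀ s : Kˣ, ∃ n : ℕ, z ^ n = s) (hG : GlueS a4 ρ)
    (hC : Cross2 (a4.comp (eS4 K)) (ρ c3))
    (hE : Fintype.card K = 4 → CrossE (a4.comp (eS4 K)) (ρ c3) z) :
    StRel (X3 (a4.comp (eS4 K)) (ρ c3)) := by
  by_cases h4 : Fintype.card K = 4
  · exact stRel_of_crossB_four hz h4 (crossB_of_cross2_S z hG hC) (hE h4)
  · exact stRel_of_crossB hz h4 (crossB_of_cross2_S z hG hC)

/-! ## generation -/

/-! ## the model -/

section model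

/-- conjugation of a block by a permutation of the pairs -/
theorem rho3_conj (σ : S3) (e : Fin 2 ↪ Fin 3) (g : Sp4 K) :
    rho3 K σ * blk e g * (rho3 K σ)⁻¹ = blk (e.trans σ.toEmbedding) g :=
  permS_conj_blk σ e g

theorem glueS_model : GlueS (jM3 K) (rho3 K) := by
  refine ⟨model_ns, ?_, ?_⟩
  · intro g
    have h := rho3_conj (K := K) s12 e01' (i0 K g)
    rw [blk_i0 (e01'.trans s12.toEmbedding) e01' (by decide) g] at h
    exact MGL_commute_of_conj h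
  · intro g g'
    show Commute (blk e01' g) (rho3 K s02 * blk e01' (i0 K g') * (rho3 K s02)⁻¹)
    rw [rho3_conj]
    exact blk_commute_i0 _ _ (by decide) g g'

theorem cross_model3 (z : Kˣ) :
    Cross2 ((jM3 K).comp (eS4 K)) (rho3 K c3) ∧ CrossE ((jM3 K).comp (eS4 K)) (rho3 K c3) z := by
  obtain ⟨h1, h2⟩ := model_lvS (K := K)
  have ha : (jM3 K).comp (eS4 K) = (Cfsg.Agent.Helper84.PSp.lvS 3 K).comp (eA K) :=
    MonoidHom.ext h1
  rw [ha, h2]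
  have hB := (cross_map (Cfsg.Agent.Helper84.PSp.lvS 3 K) (eA K) (cM K) z).1 (crossB_model K z)
  exact ⟨⟨hB.cw, hB.mul⟩,
    (cross_map (Cfsg.Agent.Helper84.PSp.lvS 3 K) (eA K) (cM K) z).2 (crossE_model K z)⟩

theorem AF3_model (i j : Fin 3) (hij : i ≠ j) (p q : Fin 2 ⊕ Fin 2) (hpq : p ≠ q) (t : K) :
    AF3 (jM3 K) (rho3 K) i j (spT p q t) = spT (em i j p) (em i j q) t := by
  obtain ⟨h0, h1⟩ := pick3_spec i j hij
  rw [AF3_apply]
  unfold jM3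
  rw [rho3_conj, blk_spT _ p q hpq t]
  have h : ∀ r : Fin 2 ⊕ Fin 2, dbl (e01'.trans (pick3 i j).toEmbedding) r = em i j r := by
    intro r
    rcases r with r | r <;> fin_cases r <;> simp [dbl, Cfsg.Agent.Helper15.PSp.em, h0, h1]
  rw [h, h]

theorem XC_model3 (o : Fin 3 → Fin 3) (ho : ∀ i, o i ≠ i) (p q : Fin 3 ⊕ Fin 3) (hpq : p ≠ q)
    (t : K) : XC (AF3 (jM3 K) (rho3 K)) o p q t = spT p q t := by
  have hne1 : (Sum.inl 0 : Fin 2 ⊕ Fin 2) ≠ Sum.inr 0 := by simp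
  have hne2 : (Sum.inr 0 : Fin 2 ⊕ Fin 2) ≠ Sum.inl 0 := by simp
  have hne3 : (Sum.inl 0 : Fin 2 ⊕ Fin 2) ≠ Sum.inl 1 := by simp
  have hne4 : (Sum.inl 0 : Fin 2 ⊕ Fin 2) ≠ Sum.inr 1 := by simp
  have hne5 : (Sum.inr 0 : Fin 2 ⊕ Fin 2) ≠ Sum.inl 1 := by simp
  have hne6 : (Sum.inr 0 : Fin 2 ⊕ Fin 2) ≠ Sum.inr 1 := by simp
  by_cases h : idx p = idx q
  · rw [MXC_XC_same _ _ _ _ h]
    rcases p with a | a <;> rcases q with b | b
    · exact absurd (congrArg Sum.inl h) hpq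
    · have h' : a = b := h
      subst h'
      exact AF3_model a (o a) (ho a).symm _ _ hne1 t
    · have h' : a = b := h
      subst h'
      exact AF3_model a (o a) (ho a).symm _ _ hne2 t
    · exact absurd (congrArg Sum.inr h) hpq
  · rw [MXC_XC_diff _ _ _ _ h]
    rcases p with a | a <;> rcases q with b | b
    · exact AF3_model a b h _ _ hne3 t
    · exact AF3_model a b h _ _ hne4 t
    · exact AF3_model a b h _ _ hne5 t
    · exact AF3_model a b h _ _ hne6 t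

end model

end Cfsg.Agent.Helper9.PSp3
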