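import Mathlib
import Cfsg.Agent.Helper9.PSp3.Main
import Cfsg.Agent.Helper15.PSp.Core
import Cfsg.Agent.Helper9.PSpA.Words
import Cfsg.Agent.Helper9.PresPSp
import Cfsg.Agent.Helper15.PSp.P_KEY
import Cfsg.Agent.Helper15.PSp.P_MAP
import Cfsg.Agent.Helper62.StCG

/-!
# S2292, the case `m = 3`: `Sp₆(K)` is presented with at most `77` relators (in fact `49`), assembly (helper9)
-/

set_option autoImplicit false

namespace Cfsg.Agent.Helper9.PSp3

open Matrix Cfsg.Agent.Helper96.StC Cfsg.Agent.Helper96.StN Cfsg.Agent.Helper29.StCM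
  Cfsg.Agent.Helper96.StemSLTwo Cfsg.Agent.Helper96.StPres Cfsg.Agent.Helper9.Sp4P
  Cfsg.Agent.Helper1.SL3P Cfsg.Agent.Helper1.SLNP Cfsg.Agent.Helper15.PSp
  Cfsg.Agent.Helper64.SpBlk Cfsg.Agent.Helper9.PSpA

open Monoid (Coprod)

universe u v

variable {K : Type u} [Field K] {D : Type v} [Group D]

/-! ## the cross relators in the free product `Sp₄(K) ∗ S₃` -/

/-- the ten gluing relators -/
noncomputable def cwGS (z : Kˣ) (l1 l2 : Sp4 K) : List (Coprod (Sp4 K) S3) :=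
  wordsGS (Coprod.inl l1) (Coprod.inl l2) (Coprod.inl (nS K)) (Coprod.inl (i0 K (uMat K 1)))
    (Coprod.inl (i0 K (dMat (z : K) z.ne_zero))) (Coprod.inl (i0 K (WU (1 : K))))
    (Coprod.inr s01) (Coprod.inr s12) (Coprod.inr s02)

/-- the two cross relators of the short root `SL₂` with the 3-cycle -/
noncomputable def cwC2S (K : Type u) [Field K] : List (Coprod (Sp4 K) S3) :=
  wordsC2 (Coprod.inl (eS4 K (uMat K 1))) (Coprod.inl (eS4 K (WU (1 : K)))) (Coprod.inr c3)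

/-- the three extra cross relators (needed for `q = 4`) -/
noncomputable def cwE4S (z : Kˣ) : List (Coprod (Sp4 K) S3) :=
  wordsE (Coprod.inl (eS4 K (uMat K 1))) (Coprod.inl (eS4 K (dMat (z : K) z.ne_zero)))
    (Coprod.inl (eS4 K (WU (1 : K)))) (Coprod.inr c3)

theorem length_cwGS (z : Kˣ) (l1 l2 : Sp4 K) : (cwGS z l1 l2).length = 10 := rfl

theorem length_cwC2S : (cwC2S K).length = 2 := rfl

theorem length_cwE4S (z : Kˣ) : (cwE4S z).length = 3 := rfl

theorem map_cwGS (a4 : Sp4 K →* D) (ρ : S3 →* D) (z : Kˣ) (l1 l2 : Sp4 K) :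
    (cwGS z l1 l2).map (Coprod.lift a4 ρ) =
      wordsGS (a4 l1) (a4 l2) (a4 (nS K)) (a4 (i0 K (uMat K 1)))
        (a4 (i0 K (dMat (z : K) z.ne_zero))) (a4 (i0 K (WU (1 : K)))) (ρ s01) (ρ s12) (ρ s02) := by
  rw [cwGS, map_wordsGS]
  simp only [Coprod.lift_apply_inl, Coprod.lift_apply_inr]

theorem map_cwC2S (a4 : Sp4 K →* D) (ρ : S3 →* D) :
    (cwC2S K).map (Coprod.lift a4 ρ) =
      wordsC2 (xe (a4.comp (eS4 K)) 1) (we (a4.comp (eS4 K))) (ρ c3) := by
  rw [cwC2S, map_wordsC2]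
  simp only [Coprod.lift_apply_inl, Coprod.lift_apply_inr]
  rfl

theorem map_cwE4S (a4 : Sp4 K →* D) (ρ : S3 →* D) (z : Kˣ) :
    (cwE4S z).map (Coprod.lift a4 ρ) =
      wordsE (xe (a4.comp (eS4 K)) 1) (he (a4.comp (eS4 K)) z) (we (a4.comp (eS4 K))) (ρ c3) := by
  rw [cwE4S, map_wordsE]
  simp only [Coprod.lift_apply_inl, Coprod.lift_apply_inr]
  rfl

theorem commute_iff_word {G : Type*} [Group G] (a b : G) :
    a * b * a⁻¹ * b⁻¹ = 1 ↔ Commute a b := by
  constructor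
  · intro h
    have : a * b = b * a := by
      calc a * b = (a * b * a⁻¹ * b⁻¹) * (b * a) := by group
        _ = b * a := by rw [h, one_mul]
    exact this
  · intro h
    have h' : a * b = b * a := h
    calc a * b * a⁻¹ * b⁻¹ = (a * b) * a⁻¹ * b⁻¹ := by group
      _ = 1 := by rw [h']; group

/-- `GlueGenS` in terms of the ten words -/
theorem glueGenS_iff_words (a4 : Sp4 K →* D) (ρ : S3 →* D) (z : Kˣ) (l1 l2 : Sp4 K) :
    GlueGenS a4 ρ z l1 l2 ↔
      ∀ w ∈ wordsGS (a4 l1) (a4 l2) (a4 (nS K)) (a4 (i0 K (uMat K 1)))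
        (a4 (i0 K (dMat (z : K) z.ne_zero))) (a4 (i0 K (WU (1 : K)))) (ρ s01) (ρ s12) (ρ s02),
        w = 1 := by
  constructor
  · intro hc w hw
    simp only [wordsGS, List.mem_cons, List.not_mem_nil, or_false] at hw
    rcases hw with rfl | rfl | rfl | rfl | rfl | rfl | rfl | rfl | rfl | rfl
    · exact mul_inv_eq_one.mpr hc.ns
    · exact (commute_iff_word _ _).mpr hc.lu
    · exact (commute_iff_word _ _).mpr hc.lh
    · exact (commute_iff_word _ _).mpr hc.lw
    · exact (commute_iff_word _ _).mpr hc.d1u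
    · exact (commute_iff_word _ _).mpr hc.d1h
    · exact (commute_iff_word _ _).mpr hc.d1w
    · exact (commute_iff_word _ _).mpr hc.d2u
    · exact (commute_iff_word _ _).mpr hc.d2h
    · exact (commute_iff_word _ _).mpr hc.d2w
  · intro h
    have hw : ∀ i (hi : i < 10), (wordsGS (a4 l1) (a4 l2) (a4 (nS K)) (a4 (i0 K (uMat K 1)))
        (a4 (i0 K (dMat (z : K) z.ne_zero))) (a4 (i0 K (WU (1 : K)))) (ρ s01) (ρ s12)
        (ρ s02))[i]'(by rw [length_wordsGS]; exact hi) = 1 :=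
      fun i hi => h _ (List.getElem_mem _)
    exact
      { ns := mul_inv_eq_one.mp (hw 0 (by norm_num))
        lu := (commute_iff_word _ _).mp (hw 1 (by norm_num))
        lh := (commute_iff_word _ _).mp (hw 2 (by norm_num))
        lw := (commute_iff_word _ _).mp (hw 3 (by norm_num))
        d1u := (commute_iff_word _ _).mp (hw 4 (by norm_num))
        d1h := (commute_iff_word _ _).mp (hw 5 (by norm_num))
        d1w := (commute_iff_word _ _).mp (hw 6 (by norm_num))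
        d2u := (commute_iff_word _ _).mp (hw 7 (by norm_num))
        d2h := (commute_iff_word _ _).mp (hw 8 (by norm_num))
        d2w := (commute_iff_word _ _).mp (hw 9 (by norm_num)) }

theorem glueGenS_iff (a4 : Sp4 K →* D) (ρ : S3 →* D) (z : Kˣ) (l1 l2 : Sp4 K) :
    GlueGenS a4 ρ z l1 l2 ↔ ∀ x ∈ cwGS z l1 l2, Coprod.lift a4 ρ x = 1 := by
  rw [forall_mem_map_iff, map_cwGS, glueGenS_iff_words]

theorem cross2S_iff (a4 : Sp4 K →* D) (ρ : S3 →* D) :
    Cross2 (a4.comp (eS4 K)) (ρ c3) ↔ ∀ x ∈ cwC2S K, Coprod.lift a4 ρ x = 1 := by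
  rw [forall_mem_map_iff, map_cwC2S, cross2_iff_words]

theorem crossES_iff (a4 : Sp4 K →* D) (ρ : S3 →* D) (z : Kˣ) :
    CrossE (a4.comp (eS4 K)) (ρ c3) z ↔ ∀ x ∈ cwE4S z, Coprod.lift a4 ρ x = 1 := by
  rw [forall_mem_map_iff, map_cwE4S, crossE_iff_words]

/-- the relations on the generators follow from the relations for all elements -/
theorem glueGenS_of_glueS {a4 : Sp4 K →* D} {ρ : S3 →* D} (hG : GlueS a4 ρ) (z : Kˣ)
    (l1 l2 : Sp4 K) : GlueGenS a4 ρ z l1 l2 :=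
  { ns := hG.ns
    lu := hG.lg _
    lh := hG.lg _
    lw := hG.lg _
    d1u := hG.djl l1 _
    d1h := hG.djl l1 _
    d1w := hG.djl l1 _
    d2u := hG.djl l2 _
    d2h := hG.djl l2 _
    d2w := hG.djl l2 _ }

/-- the auxiliary second index -/
def oAux3 (i : Fin 3) : Fin 3 := if i = 0 then 1 else 0

theorem oAux3_ne : ∀ i : Fin 3, oAux3 i ≠ i := by decide

/-- all cross relators -/
noncomputable def cwAllS [Fintype K] (z : Kˣ) (l1 l2 : Sp4 K) : List (Coprod (Sp4 K) S3) :=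
  cwGS z l1 l2 ++ cwC2S K ++ (if Fintype.card K = 4 then cwE4S z else [])

theorem length_cwAllS [Fintype K] (z : Kˣ) (l1 l2 : Sp4 K) : (cwAllS z l1 l2).length ≤ 18 := by
  unfold cwAllS
  rw [List.length_append, List.length_append, length_cwGS, length_cwC2S]
  split_ifs
  · rw [length_cwE4S]; omega
  · simp

theorem map_AF3 {E : Type*} [Group E] (φ : D →* E) (a4 : Sp4 K →* D) (ρ : S3 →* D) (i j : Fin 3)
    (g : Sp4 K) : φ (AF3 a4 ρ i j g) = AF3 (φ.comp a4) (φ.comp ρ) i j g := by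
  simp only [AF3_apply, map_mul, map_inv, MonoidHom.comp_apply]

section core

variable [Fintype K] {z : Kˣ} {l1 l2 : Sp4 K}

theorem mem_cwAllS_G {x : Coprod (Sp4 K) S3} (hx : x ∈ cwGS z l1 l2) : x ∈ cwAllS z l1 l2 :=
  List.mem_append_left _ (List.mem_append_left _ hx)

theorem mem_cwAllS_C {x : Coprod (Sp4 K) S3} (hx : x ∈ cwC2S K) : x ∈ cwAllS z l1 l2 :=
  List.mem_append_left _ (List.mem_append_right _ hx)

theorem mem_cwAllS_E (h4 : Fintype.card K = 4) {x : Coprod (Sp4 K) S3} (hx : x ∈ cwE4S z) :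
    x ∈ cwAllS z l1 l2 := by
  apply List.mem_append_right
  rw [if_pos h4]
  exact hx

/-- **the recognition**: a group generated by images of `Sp₄(K)` and `S₃` in which the cross relators hold maps
injectively to `Sp₆(K)` -/
theorem core_injective3 (hz : ∀ s : Kˣ, ∃ n : ℕ, z ^ n = s)
    (hl : Subgroup.closure ({l1, l2} : Set (Sp4 K)) = ⊤)
    (a4 : Sp4 K →* D) (ρ : S3 →* D) (htop : a4.range ⊔ ρ.range = ⊤)
    (hcw : ∀ x ∈ cwAllS z l1 l2, Coprod.lift a4 ρ x = 1)
    (φ : D →* Matrix.symplecticGroup (Fin 3) K) (h1 : φ.comp a4 = jM3 K)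
    (h2 : φ.comp ρ = rho3 K) : Function.Injective φ := by
  have hGG : GlueGenS a4 ρ z l1 l2 :=
    (glueGenS_iff a4 ρ z l1 l2).2 (fun x hx => hcw x (mem_cwAllS_G hx))
  have hG : GlueS a4 ρ := glueS_of_gen (closure_u_h_w hz) hl hGG
  have hC : Cross2 (a4.comp (eS4 K)) (ρ c3) :=
    (cross2S_iff a4 ρ).2 (fun x hx => hcw x (mem_cwAllS_C hx))
  have hE : Fintype.card K = 4 → CrossE (a4.comp (eS4 K)) (ρ c3) z :=
    fun h4 => (crossES_iff a4 ρ z).2 (fun x hx => hcw x (mem_cwAllS_E h4 hx))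
  have h3 := stRel_X3_of_cross2_S hz hG hC hE
  have hF : Fam (AF3 a4 ρ) := fam_of_glueS hG h3
  have hX : SpRel (XC (AF3 a4 ρ) oAux3) := spRel_XC le_rfl hF oAux3 oAux3_ne
  have hgen := gen_XC3 oAux3 Cfsg.Agent.Helper62.StCG.spT_closure hG.ns
    (fun i j hij p q h t => XC_em hF oAux3 oAux3_ne hij p q h t) htop
  refine Cfsg.Agent.Helper96.StC.phi_injective (by omega) hX hgen φ ?_
  intro p q hpq t
  rw [map_XC]
  have e : (fun i j => φ.comp (AF3 a4 ρ i j)) = AF3 (jM3 K) (rho3 K) := by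
    funext i j
    apply MonoidHom.ext
    intro g
    rw [MonoidHom.comp_apply, map_AF3, h1, h2]
  rw [e, XC_model3 oAux3 oAux3_ne p q hpq t, spT_coe hpq]

end core

section model

variable [Fintype K]

theorem model_cwAllS (z : Kˣ) (l1 l2 : Sp4 K) :
    ∀ x ∈ cwAllS z l1 l2, Coprod.lift (jM3 K) (rho3 K) x = 1 := by
  intro x hx
  unfold cwAllS at hx
  rcases List.mem_append.1 hx with hx | hx
  · rcases List.mem_append.1 hx with hx | hx
    · exact (glueGenS_iff (jM3 K) (rho3 K) z l1 l2).1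
        (glueGenS_of_glueS glueS_model z l1 l2) x hx
    · exact (cross2S_iff (jM3 K) (rho3 K)).1 (cross_model3 z).1 x hx
  · split_ifs at hx with h4
    · exact (crossES_iff (jM3 K) (rho3 K) z).1 (cross_model3 z).2 x hx
    · simp at hx

theorem model_range_top3 : (jM3 K).range ⊔ (rho3 K).range = ⊤ := by
  rw [eq_top_iff, ← Cfsg.Agent.Helper62.StCG.closure_root_eq_top
    (T := fun p q t => (spT p q t : Matrix.symplecticGroup (Fin 3) K))
    (fun p q hpq t => spT_coe hpq t), Subgroup.closure_le]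
  rintro _ ⟨p, q, hpq, t, rfl⟩
  change spT p q t ∈ _
  rw [← XC_model3 oAux3 oAux3_ne p q hpq t]
  have hAF : ∀ i j g, AF3 (jM3 K) (rho3 K) i j g ∈ (jM3 K).range ⊔ (rho3 K).range := by
    intro i j g
    rw [AF3_apply]
    exact mul_mem (mul_mem (Subgroup.mem_sup_right ⟨_, rfl⟩) (Subgroup.mem_sup_left ⟨_, rfl⟩))
      (inv_mem (Subgroup.mem_sup_right ⟨_, rfl⟩))
  unfold XC
  split_ifs
  · exact hAF _ _ _
  · exact hAF _ _ _

end model

/-- **`Sp₆(K)` has a presentation with at most `77` relators** -/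
theorem sp6_presentation (K : Type u) [Field K] [Fintype K] :
    ∃ (α : Type) (rels : Finset (FreeGroup α)), rels.card ≤ 77 ∧
      Nonempty (PresentedGroup (↑rels : Set (FreeGroup α)) ≃*
        Matrix.symplecticGroup (Fin 3) K) := by
  classical
  obtain ⟨relsS, eS, hcardS⟩ := s3_presentation
  obtain ⟨z, hz⟩ : ∃ z : Kˣ, ∀ s : Kˣ, ∃ n : ℕ, z ^ n = s := by
    obtain ⟨g, hg⟩ := IsCyclic.exists_monoid_generator (α := Kˣ)
    exact ⟨g, fun s => by
      obtain ⟨n, hn⟩ := (Submonoid.mem_powers_iff s g).1 (hg s)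
      exact ⟨n, hn⟩⟩
  obtain ⟨l1, l2, hl⟩ := sp4_two_generated K
  exact Cfsg.Agent.Helper9.PresPSp.sp_presentation_of_core 3 relsS eS (by omega)
    (cwAllS z l1 l2) (length_cwAllS z l1 l2) (jM3 K) (rho3 K)
    (model_cwAllS z l1 l2) model_range_top3
    (fun D _ a₁ a₂ htop hcw φ h1 h2 => core_injective3 hz hl a₁ a₂ htop hcw φ h1 h2)

end Cfsg.Agent.Helper9.PSp3
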